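import Cfsg.Agent.H10.K9.A
import Cfsg.Agent.H9.Ky5

/-! Generators, normal subgroups, normal forms and the action on eighteen points. -/

set_option autoImplicit false

namespace H10.K9
open Equiv Finset

variable {x y : D} {a b c d i j k : I} {L : Subgroup D} {J : Finset I}

theorem genV (h : ∀ i ∈ J, ∀ j ∈ J, v i j ∈ L) (s : x.s = 1) (hx : M x ⊆ J) : x ∈ L := by
  induction e : w x using Nat.strong_induction_on generalizing x with | _ n ih =>
  rcases (M x).eq_empty_or_nonempty with k | ⟨i, hi⟩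
  · exact w_zero (card_eq_zero.2 k) ▸ one_mem L
  have m : ∀ {i}, i ∈ M x ↔ x.e i = 1 := by simp [mem_M, s, ne0]
  obtain ⟨j, hj, n⟩ : ∃ j ∈ M x, j ≠ i := by
    by_contra! k
    have := x.h
    rw [sum_eq_single i (fun j _ n => (nmem_M.1 fun l => n (k j l)).2) (by simp), m.1 hi] at this
    exact one_ne_zero this
  have u : M (v i j * x) ⊂ M x := ⟨fun l hl => (mem_union.1 (M_mul hl)).elim
    (fun t => ((mem_M_v n.symm).1 t).elim (· ▸ hi) (· ▸ hj)) id, fun t => nmem_M.2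
      ⟨by simp [s], by simp [s, v_e, m.1 hi, n.symm, aa]⟩ (t hi)⟩
  exact (mul_mem_cancel_left (h i (hx hi) j (hx hj))).1
    (ih _ (e ▸ card_lt_card u) (by simp [s]) (u.1.trans hx) rfl)

theorem gen (h : ∀ i ∈ J, ∀ j ∈ J, sw i j ∈ L ∧ v i j ∈ L) (hx : M x ⊆ J) : x ∈ L := by
  induction e : x.s.support.card using Nat.strong_induction_on generalizing x with | _ n ih =>
  by_cases s : x.s = 1
  · exact genV (fun i a j b => (h i a j b).2) s hx
  obtain ⟨i, hi⟩ : ∃ i, x.s i ≠ i := by simpa [Equiv.ext_iff] using s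
  have m : i ∈ M x := mem_M.2 (.inl hi)
  refine (mul_mem_cancel_left (h i (hx m) _ (hx (M_self.2 m))).1).1
    (ih _ (e ▸ Perm.card_support_swap_mul hi) (fun l hl => (mem_union.1 (M_mul hl)).elim (fun t => ?_) (hx ·)) rfl)
  by_contra u
  exact nM_sw (fun e : l = i => u (e ▸ hx m)) (fun e : l = x.s i => u (e ▸ hx (M_self.2 m))) t

theorem gen_top (h : ∀ i, sw 0 i ∈ L) (k : v 0 1 ∈ L) (x : D) : x ∈ L := by
  have h1 : ∀ i j, sw i j ∈ L := fun i j => by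
    rcases (by decide +kernel : ∀ i j, sw i j = sw 0 i * sw 0 j * sw 0 i ∨ sw i j = sw 0 j ∨ sw i j = sw 0 i ∨
      sw i j = 1) i j with e | e | e | e <;> rw [e]
    exacts [mul_mem (mul_mem (h i) (h j)) (h i), h j, h i, one_mem L]
  have h2 : ∀ j, v 0 j ∈ L := fun j => by
    rcases (by decide +kernel : ∀ j, v 0 j = sw 1 j * v 0 1 * sw 1 j ∨ v 0 j = 1) j with e | e <;> rw [e]
    exacts [mul_mem (mul_mem (h1 _ _) k) (h1 _ _), one_mem L]
  exact gen (J := univ) (fun i _ j _ => ⟨h1 i j, v_mul 0 i j ▸ mul_mem (h2 i) (h2 j)⟩) (subset_univ _)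

theorem ex_pair (h : a ≠ b) (k : c ≠ d) : ∃ σ : Perm I, σ a = c ∧ σ b = d :=
  ⟨swap (swap a c b) d * swap a c, by revert a b c d; decide +kernel⟩

theorem nV [n : L.Normal] (h : a ≠ b) (m : v a b ∈ L) (i j : I) : v i j ∈ L := by
  by_cases e : i = j
  · exact e ▸ v_self i ▸ one_mem L
  obtain ⟨σ, rfl, rfl⟩ := ex_pair h e
  exact cj_v (pm σ) a b ▸ n.conj_mem _ m _

theorem cm_sw (s : x.s = 1) (h : x.e a ≠ x.e b) : sw a b * x * (sw a b)⁻¹ * x = v a b := by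
  have n : a ≠ b := fun e => h (e ▸ rfl)
  have t : x.e a + x.e b = 1 := by revert h; generalize x.e a = p, x.e b = q; revert p q; decide
  refine D.ext' (by simp [s]) fun i => ?_
  by_cases e : i = a
  · simp [s, e, v_e, n, t]
  by_cases e' : i = b
  · simp [s, e', v_e, n.symm, add_comm, t]
  simp [s, v_e, e, e', swap_apply_of_ne_of_ne, aa]

theorem z_eq : z0 = v 0 1 * v 2 3 * v 4 5 * v 6 7 := by decide +kernel

/-- automorphisms of the triangular graph -/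
theorem perm_of {θ : I → D} (ha : a ∈ J) (hb : b ∈ J) (hc : c ∈ J) (ab : b ≠ a) (ac : c ≠ a) (bc : b ≠ c)
    (h1 : ∀ j ∈ J, j ≠ a → (θ j).s = 1 ∧ w (θ j) = 2)
    (h2 : ∀ j ∈ J, ∀ k ∈ J, j ≠ a → k ≠ a → j ≠ k → w (θ j * θ k) = 2)
    (h3 : ∀ j ∈ J, j ≠ a → θ b * θ c ≠ θ j) : ∃ σ : Perm I, ∀ j ∈ J, j ≠ a → θ j = v (σ a) (σ j) := by
  have mt : ∀ a b c d : I, w (v a b * v c d) = 2 → a ≠ b → c ≠ d →
      (c = a ∨ c = b ∨ d = a ∨ d = b) ∧ v a b ≠ v c d := by decide +kernel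
  obtain ⟨o, p, r, e1, e2, n1, n2⟩ : ∃ o p r, θ b = v o p ∧ θ c = v o r ∧ o ≠ p ∧ o ≠ r := by
    obtain ⟨p, q, n, e⟩ := w2V (h1 b hb ab).1 (h1 b hb ab).2
    obtain ⟨r, s, n', e'⟩ := w2V (h1 c hc ac).1 (h1 c hc ac).2
    rcases (mt p q r s (e ▸ e' ▸ h2 b hb c hc ab ac bc) n n').1 with rfl | rfl | rfl | rfl
    exacts [⟨_, _, _, e, e', n, n'⟩, ⟨_, _, _, e.trans (v_symm _ _), e', n.symm, n'⟩,
      ⟨_, _, _, e, e'.trans (v_symm _ _), n, n'.symm⟩,
      ⟨_, _, _, e.trans (v_symm _ _), e'.trans (v_symm _ _), n.symm, n'.symm⟩]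
  have k : ∀ j : J, ∃ q, (j = a → q = o) ∧ (j ≠ a → o ≠ q ∧ θ j = v o q) := fun ⟨j, hj⟩ => by
    by_cases e : j = a
    · exact ⟨o, fun _ => rfl, fun n => absurd e n⟩
    by_cases e3 : j = b
    · exact ⟨p, fun n => absurd n e, fun _ => ⟨n1, e3 ▸ e1⟩⟩
    by_cases e4 : j = c
    · exact ⟨r, fun n => absurd n e, fun _ => ⟨n2, e4 ▸ e2⟩⟩
    obtain ⟨s, t, n, f⟩ := w2V (h1 j hj e).1 (h1 j hj e).2
    by_cases e5 : s = o
    · exact ⟨t, fun n => absurd n e, fun _ => ⟨e5 ▸ n, e5 ▸ f⟩⟩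
    by_cases e6 : t = o
    · exact ⟨s, fun n => absurd n e, fun _ => ⟨Ne.symm e5, e6 ▸ f.trans (v_symm _ _)⟩⟩
    have k1 := (mt o p s t (e1 ▸ f ▸ h2 b hb j hj ab e (Ne.symm e3)) n1 n).1
    have k2 := (mt o r s t (e2 ▸ f ▸ h2 c hc j hj ac e (Ne.symm e4)) n2 n).1
    have k3 : p ≠ r := fun g => (mt o p o r (e1 ▸ e2 ▸ h2 b hb c hc ab ac bc) n1 n2).2 (g ▸ rfl)
    refine absurd ?_ (h3 j hj e)
    rw [e1, e2, f, v_mul]
    simp only [e5, e6, false_or] at k1 k2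
    rcases k1 with rfl | rfl <;> rcases k2 with rfl | rfl <;> first | exact absurd rfl k3 | rfl | exact v_symm _ _
  choose f f1 f2 using k
  obtain ⟨σ, hσ⟩ := Perm.exists_extending_pair (f := ((↑) : J → I)) (g := f) Subtype.val_injective fun i j e => by
    by_contra n
    by_cases e1 : (i : I) = a <;> by_cases e2 : (j : I) = a
    · exact n (Subtype.ext (e1.trans e2.symm))
    · exact (f2 j e2).1 ((f1 i e1).symm.trans e)
    · exact (f2 i e1).1 ((f1 j e2).symm.trans e.symm)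
    · have := h2 i i.2 j j.2 e1 e2 fun g => n (Subtype.ext g)
      rw [(f2 i e1).2, (f2 j e2).2, e, V_sq rfl, w_one] at this
      exact absurd this (by decide)
  exact ⟨σ, fun j hj n => by rw [hσ ⟨a, ha⟩, hσ ⟨j, hj⟩, f1 _ rfl]; exact (f2 ⟨j, hj⟩ n).2⟩

def dd : ℕ → Perm I
  | 0 => 1
  | 1 => swap 0 1
  | 2 => swap 0 1 * swap 2 3
  | 3 => swap 0 1 * swap 2 3 * swap 4 5
  | _ => swap 0 1 * swap 2 3 * swap 4 5 * swap 6 7
def x0 : D := pm (dd 4)

theorem std {τ : Perm I} (h : τ * τ = 1) : ∃ σ : Perm I, ∃ n ≤ 4, σ * τ * σ⁻¹ = dd n := by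
  obtain ⟨a1, a2⟩ := H9.Ky.cyc_inv h
  have l : τ.cycleType.card ≤ 4 := by have := card_le_univ τ.support; simp at this; omega
  obtain ⟨b0, b3⟩ := (by decide +kernel : ∀ n ≤ 4, dd n * dd n = 1 ∧ (dd n).support.card = n * 2) _ l
  obtain ⟨b1, b2⟩ := H9.Ky.cyc_inv b0
  obtain ⟨σ, e⟩ := isConj_iff.1 (Perm.isConj_of_cycleType_eq (σ := τ) (τ := dd τ.cycleType.card) (by
    refine a1.trans (.trans ?_ b1.symm); congr 1; omega))
  exact ⟨σ, _, l, e⟩

/-- the standard form inside the stabiliser of the last point -/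
theorem std8 {τ : Perm I} (h : τ * τ = 1) (k : τ 8 = 8) : ∃ σ : Perm I, σ 8 = 8 ∧ ∃ n ≤ 4, σ * τ * σ⁻¹ = dd n := by
  obtain ⟨σ, n, l, e⟩ := std h
  have f : dd n (σ 8) = σ 8 := by rw [← e]; simp [k]
  obtain ⟨d1, d2⟩ := (by decide +kernel : ∀ n ≤ 4, ∀ i, dd n i = i → dd n 8 = 8 ∧
    swap i 8 * dd n * (swap i 8)⁻¹ = dd n) n l _ f
  exact ⟨swap (σ 8) 8 * σ, by simp, n, l, by rw [← d2, ← e]; group⟩

def dv (δ : I → Z2) : D := ⟨1, fun i => δ i + if i = 8 then ∑ j, δ j else 0, by simp [sum_add_distrib, aa]⟩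
theorem tw_dv (δ : I → Z2) (h : x.s 8 = 8) : dv δ * x * (dv δ)⁻¹ = tw δ x := D.ext' (by simp [dv]) fun i => by
  have : x.s i = 8 ↔ i = 8 := ⟨fun e => x.s.injective (e.trans h.symm), fun e => e ▸ h⟩
  simp only [dv, D.mul_e, D.inv_e, D.mul_s, D.inv_s, inv_one, Perm.one_apply, tw_e, this]
  linear_combination (exp := 1) aa (if i = 8 then ∑ j, δ j else 0)

theorem std_pure (h : x * x = 1) (k : x.s 8 = 8) (p : ∀ i, i ≠ 8 → x.s i ≠ i) :
    ∃ y : D, y.s 8 = 8 ∧ y * x * y⁻¹ = x0 := by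
  obtain ⟨σ, s8, n, l, e⟩ := std8 (τ := x.s) (congrArg D.s h) k
  have h' : pm σ * x * (pm σ)⁻¹ * (pm σ * x * (pm σ)⁻¹) = 1 := by rw [conj_mul, h]; simp
  obtain rfl : n = 4 := by
    by_contra k
    have : (σ * x.s * σ⁻¹) 7 = 7 := e ▸ (by decide +kernel : ∀ n ≤ 4, n ≠ 4 → dd n 7 = 7) n l k
    exact p (σ⁻¹ 7) (fun f => by rw [Perm.inv_eq_iff_eq, s8] at f; exact absurd f (by decide))
      (by simpa [← Perm.eq_inv_iff_eq] using this)
  change (pm σ * x * (pm σ)⁻¹).s = _ at e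
  suffices ∀ y : D, y.s = dd 4 → y * y = 1 → ∃ δ, tw δ y = x0 by
    obtain ⟨δ, t⟩ := this _ e h'
    exact ⟨dv δ * pm σ, s8, by rw [← t, ← tw_dv δ (by rw [e]; rfl)]; group⟩
  intro y e h'
  have q := fun i => congrArg (·.e i) h'
  simp only [D.mul_e, e, D.one_e] at q
  have e8 : y.e 8 = 0 := by
    have t := y.h
    have q0 : y.e 0 + y.e 1 = 0 := q 0
    have q2 : y.e 2 + y.e 3 = 0 := q 2
    have q4 : y.e 4 + y.e 5 = 0 := q 4
    have q6 : y.e 6 + y.e 7 = 0 := q 6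
    simp only [Fin.sum_univ_succ, Fin.sum_univ_zero] at t
    change y.e 0 + (y.e 1 + (y.e 2 + (y.e 3 + (y.e 4 + (y.e 5 + (y.e 6 + (y.e 7 + (y.e 8 + 0)))))))) = 0 at t
    linear_combination t - q0 - q2 - q4 - q6
  refine ⟨fun i => if i.1 % 2 = 0 then y.e i else 0, D.ext' e fun i => ?_⟩
  rw [tw_e, e]
  rcases (by decide +kernel : ∀ i : I, i = 8 ∨ (i.1 % 2 = 0 ↔ ¬ (dd 4 i).1 % 2 = 0)) i with rfl | k
  · simp [e8, x0, show dd 4 8 = 8 from rfl]
  by_cases t : i.1 % 2 = 0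
  · simp [t, k.1 t, aa, x0]
  · simp [t, not_not.1 (mt k.2 t), q i, x0]

/-! ### the eighteen points -/

abbrev Ω := I × Z2
instance : MulAction D Ω where
  smul x p := (x.s p.1, p.2 + x.e p.1)
  one_smul p := Prod.ext rfl (add_zero _)
  mul_smul x y p := Prod.ext rfl (add_assoc _ _ _).symm
theorem smul_def (x : D) (p : Ω) : x • p = (x.s p.1, p.2 + x.e p.1) := rfl
theorem fix_iff {p : Ω} : x • p = p ↔ p.1 ∉ M x := by simp [smul_def, Prod.ext_iff, nmem_M]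
abbrev ac : D →* Perm Ω := MulAction.toPermHom D Ω
theorem sign_ac (x : D) : ac x ∈ alternatingGroup Ω := by
  have k : ∀ a b c d : Ω, (a = b ↔ c = d) → swap a b * swap c d ∈ alternatingGroup Ω := fun a b c d h => by
    by_cases e : a = b <;> simp [e, h.symm, Perm.mem_alternatingGroup, ← h]
  refine gen_top (L := (alternatingGroup Ω).comap ac) (fun i => ?_) ?_ x
  · exact Subgroup.mem_comap.2 ((by decide +kernel : ∀ i, swap (0, 0) (i, 0) * swap (0, 1) (i, 1) = ac (sw 0 i)) i ▸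
      k _ _ _ _ (by simp))
  · exact Subgroup.mem_comap.2 ((by decide +kernel : swap (0, 0) (0, 1) * swap (1, 0) (1, 1) = ac (v 0 1)) ▸
      k _ _ _ _ (by simp))
abbrev A18 := alternatingGroup Ω
def al : D →* A18 := ac.codRestrict _ sign_ac
theorem al_inj : Function.Injective al := (injective_iff_map_eq_one _).2 fun x h => eq_one fun i =>
  fix_iff (p := (i, 0)).1 (congrArg (fun g : A18 => g.1 (i, 0)) h)
theorem supp_al (x : D) : (al x).1.support.card = w x * 2 := by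
  rw [show (al x).1.support = M x ×ˢ univ from Finset.ext fun p => by
    rw [Perm.mem_support, mem_product, and_iff_left (mem_univ _)]
    exact (fix_iff (p := p) (x := x)).not.trans not_not, card_product]
  rfl
theorem cj_al (hx : x * x = 1) (hy : y * y = 1) : IsConj (al x) (al y) ↔ w x = w y := by
  refine ⟨fun h => ?_, fun h => ?_⟩
  · obtain ⟨g, e⟩ := isConj_iff.1 h
    have := Perm.card_support_conj (σ := g.1) (τ := (al x).1)
    rw [show g.1 * (al x).1 * g.1⁻¹ = (al y).1 from congrArg Subtype.val e, supp_al, supp_al] at this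
    omega
  have k : ∀ {x : D}, x * x = 1 → (al x).1 * (al x).1 = 1 := fun h =>
    congrArg Subtype.val ((map_mul al _ _).symm.trans (h ▸ map_one al))
  obtain ⟨a1, a2⟩ := H9.Ky.cyc_inv (k hx)
  obtain ⟨b1, b2⟩ := H9.Ky.cyc_inv (k hy)
  rw [supp_al] at a2 b2
  obtain ⟨σ, e⟩ := isConj_iff.1 (Perm.isConj_of_cycleType_eq (σ := (al x).1) (τ := (al y).1) (by
    refine a1.trans (.trans ?_ b1.symm); congr 1; omega))
  rcases Int.units_eq_one_or (Perm.sign σ) with s | s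
  · exact isConj_iff.2 ⟨⟨σ, s⟩, Subtype.ext e⟩
  by_cases o : al x = 1
  · rw [o] at e ⊢; rw [show al y = 1 from Subtype.ext (by simpa using e.symm)]
  obtain ⟨p, hp⟩ : ∃ p, (al x).1 p ≠ p := not_forall.1 fun f => o (Subtype.ext (Equiv.ext f))
  refine isConj_iff.2 ⟨⟨σ * swap p ((al x).1 p), by simp [Perm.mem_alternatingGroup, s, hp.symm]⟩, Subtype.ext ?_⟩
  have t := swap_apply_apply (al x).1 p ((al x).1 p)
  rw [← Perm.mul_apply _ _ p, k hx, Perm.one_apply, swap_comm, eq_mul_inv_iff_mul_eq] at t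
  change σ * _ * _ * (σ * _)⁻¹ = _
  rw [← e, mul_assoc σ, t]; group

end H10.K9
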